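import Groth.Agent.ProjBundleLib.PieceOne
import Groth.Agent.QCAlgLib.OfSite

/-! The subalgebra generated by a quasi-coherent module of sections of one degree. -/

noncomputable section

universe u

open CategoryTheory CategoryTheory.Limits AlgebraicGeometry TopologicalSpace Opposite
open RelProj
open Scheme (AffineZariskiSite)

namespace Groth.Agent.SubGen48

variable {Y : Scheme.{u}} (𝒮 : QCGrAlg Y) (n : ℕ)

/-- The degree piece component of a section. -/
def comp (U : Y.Opens) (hU : IsAffineOpen U) :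
    (𝒮.presheaf.obj (op U) : Type u) →+ (𝒮.presheaf.obj (op U) : Type u) :=
  AddMonoidHom.mk' (fun x => (DirectSum.decompose (𝒮.deg U hU) x n : 𝒮.presheaf.obj (op U)))
    fun a b => by rw [DirectSum.decompose_add, DirectSum.add_apply, AddMemClass.coe_add]

lemma comp_smul (U : Y.Opens) (hU : IsAffineOpen U) (r : Γ(Y, U)) (x : 𝒮.presheaf.obj (op U)) :
    comp 𝒮 n U hU ((𝒮.str.app (op U)).hom r * x) = (𝒮.str.app (op U)).hom r * comp 𝒮 n U hU x :=
  DirectSum.coe_decompose_mul_of_left_mem_of_le (𝒮.deg U hU) (𝒮.str_mem U hU r) (Nat.zero_le n)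

lemma res_comp {U V : Y.Opens} (hU : IsAffineOpen U) (hV : IsAffineOpen V) (i : V ≤ U)
    (x : 𝒮.presheaf.obj (op U)) :
    comp 𝒮 n V hV ((𝒮.presheaf.map (homOfLE i).op).hom x) =
      (𝒮.presheaf.map (homOfLE i).op).hom (comp 𝒮 n U hU x) :=
  (map_directSumDecompose (𝒜 := 𝒮.deg U hU) (ℬ := 𝒮.deg V hV) (𝒮.res hU hV i) (x := x) (i := n)).symm

/-- The component map on the affine site. -/
def compSite : (AffineZariskiSite.toOpensFunctor Y).op ⋙ 𝒮.toModule.presheaf ⟶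
    (AffineZariskiSite.toOpensFunctor Y).op ⋙ 𝒮.toModule.presheaf where
  app U := AddCommGrpCat.ofHom (comp 𝒮 n U.unop.1 U.unop.2)
  naturality U V i := by
    ext x
    exact res_comp 𝒮 n U.unop.2 V.unop.2 (AffineZariskiSite.toOpens_mono i.unop.le) x

/-- The projection to degree piece. -/
def projN : 𝒮.toModule ⟶ 𝒮.toModule :=
  SymLib.homOfSite (compSite 𝒮 n) fun U hU r x => comp_smul 𝒮 n U hU r x

lemma projN_app (U : Y.Opens) (hU : IsAffineOpen U) (x : 𝒮.presheaf.obj (op U)) :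
    (projN 𝒮 n).app U x = comp 𝒮 n U hU x := by
  exact congr($(SymLib.homOfSite_app (compSite 𝒮 n) (fun U hU r x => comp_smul 𝒮 n U hU r x) U hU) x)

/-- The degree piece module. -/
def piece : Y.Modules := kernel (𝟙 𝒮.toModule - projN 𝒮 n)

/-- Its inclusion. -/
def pieceι : piece 𝒮 n ⟶ 𝒮.toModule := kernel.ι _

instance isQuasicoherent_piece : (piece 𝒮 n).IsQuasicoherent := by
  have := LimTop.SubAlg.isQuasicoherent_toModule 𝒮.toQCAlg
  exact QCoh.isQuasicoherent_kernel _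

lemma pieceι_injective (U : Y.Opens) : Function.Injective ((pieceι 𝒮 n).app U) := by
  have : Mono (pieceι 𝒮 n) := inferInstanceAs (Mono (kernel.ι _))
  exact QCoh.app_injective_of_mono _ U

lemma pieceι_mem (U : Y.Opens) (hU : IsAffineOpen U) (z : Γ(piece 𝒮 n, U)) :
    (pieceι 𝒮 n).app U z ∈ 𝒮.deg U hU n := by
  have h : ((pieceι 𝒮 n) ≫ (𝟙 𝒮.toModule - projN 𝒮 n)).app U z = 0 := by
    rw [show pieceι 𝒮 n ≫ (𝟙 𝒮.toModule - projN 𝒮 n) = 0 from kernel.condition _]
    rfl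
  rw [Scheme.Modules.Hom.comp_app, ConcreteCategory.comp_apply, Scheme.Modules.Hom.sub_app] at h
  change (pieceι 𝒮 n).app U z - (projN 𝒮 n).app U ((pieceι 𝒮 n).app U z) = 0 at h
  rw [sub_eq_zero] at h
  have h2 := h.trans (projN_app 𝒮 n U hU _)
  exact h2 ▸ SetLike.coe_mem _

lemma exists_pieceι (U : Y.Opens) (hU : IsAffineOpen U) (x : 𝒮.presheaf.obj (op U)) (hx : x ∈ 𝒮.deg U hU n) :
    ∃ z : Γ(piece 𝒮 n, U), (pieceι 𝒮 n).app U z = x := by
  let S := ShortComplex.mk (pieceι 𝒮 n) (𝟙 𝒮.toModule - projN 𝒮 n) (kernel.condition _)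
  have : Mono S.f := inferInstanceAs (Mono (kernel.ι _))
  refine QCoh.exists_app_eq_of_app_eq_zero S (ShortComplex.exact_of_f_is_kernel _ (kernelIsKernel _)) U x ?_
  change (𝟙 𝒮.toModule - projN 𝒮 n).app U x = 0
  rw [Scheme.Modules.Hom.sub_app]
  change (id x : Γ(𝒮.toModule, U)) - (projN 𝒮 n).app U x = 0
  rw [sub_eq_zero]
  refine Eq.trans ?_ (projN_app 𝒮 n U hU x).symm
  exact (DirectSum.decompose_of_mem_same (𝒮.deg U hU) hx).symm


variable {E : Y.Modules} [E.IsQuasicoherent] (ι : E ⟶ 𝒮.toModule)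

/-- The subring generated by the functions and the sections of `E`. -/
def R (U : Y.Opens) : Subring (𝒮.presheaf.obj (op U)) :=
  Subring.closure (Set.range (𝒮.str.app (op U)).hom ∪ Set.range fun z : Γ(E, U) => (show 𝒮.presheaf.obj (op U) from ι.app U z))

variable {𝒮}

lemma ι_smul {U : Y.Opens} (r : Γ(Y, U)) (z : Γ(E, U)) :
    (show 𝒮.presheaf.obj (op U) from ι.app U (r • z)) = (𝒮.str.app (op U)).hom r * (show 𝒮.presheaf.obj (op U) from ι.app U z) := by
  refine (Scheme.Modules.Hom.app_smul ι r z).trans ?_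
  rfl

lemma ι_res {U V : Y.Opens} (i : V ≤ U) (z : Γ(E, U)) :
    (𝒮.presheaf.map (homOfLE i).op).hom (show 𝒮.presheaf.obj (op U) from ι.app U z) =
      (show 𝒮.presheaf.obj (op V) from ι.app V (QCoh.res E i z)) :=
  (congr($(ι.mapPresheaf.naturality (homOfLE i).op) z)).symm

lemma res_str {U V : Y.Opens} (i : V ≤ U) (r : Γ(Y, U)) :
    (𝒮.presheaf.map (homOfLE i).op).hom ((𝒮.str.app (op U)).hom r) =
      (𝒮.str.app (op V)).hom (QCoh.rres i r) :=
  (congr($(𝒮.str.naturality (homOfLE i).op).hom r)).symm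

lemma res_mem {U V : Y.Opens} (i : V ≤ U) {x : 𝒮.presheaf.obj (op U)} (hx : x ∈ R 𝒮 ι U) :
    (𝒮.presheaf.map (homOfLE i).op).hom x ∈ R 𝒮 ι V := by
  suffices h : R 𝒮 ι U ≤ (R 𝒮 ι V).comap (𝒮.presheaf.map (homOfLE i).op).hom from h hx
  rw [R, Subring.closure_le]
  rintro _ (⟨r, rfl⟩ | ⟨z, rfl⟩)
  · exact Subring.subset_closure (Or.inl ⟨_, (res_str i r).symm⟩)
  · exact Subring.subset_closure (Or.inr ⟨_, (ι_res ι i z).symm⟩)

lemma str_mem_R {U : Y.Opens} (r : Γ(Y, U)) : (𝒮.str.app (op U)).hom r ∈ R 𝒮 ι U :=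
  Subring.subset_closure (Or.inl ⟨r, rfl⟩)

/-- The subrings on the affine opens. -/
def site : Y.AffineZariskiSiteᵒᵖ ⥤ CommRingCat.{u} where
  obj U := CommRingCat.of (R 𝒮 ι U.unop.1)
  map {U V} i := CommRingCat.ofHom
    (((𝒮.presheaf.map (homOfLE (AffineZariskiSite.toOpens_mono i.unop.le)).op).hom.comp (R 𝒮 ι U.unop.1).subtype).codRestrict
      (R 𝒮 ι V.unop.1) fun x => res_mem ι _ x.2)
  map_id U := by
    refine CommRingCat.hom_ext (RingHom.ext fun x => Subtype.ext ?_)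
    exact congr($(𝒮.presheaf.map_id (op U.unop.1)).hom x.1)
  map_comp {U V W} i j := by
    refine CommRingCat.hom_ext (RingHom.ext fun x => Subtype.ext ?_)
    show (𝒮.presheaf.map _).hom x.1 = (𝒮.presheaf.map _).hom ((𝒮.presheaf.map _).hom x.1)
    rw [← CommRingCat.comp_apply, ← Functor.map_comp]
    rfl

/-- The structure maps. -/
def str : (AffineZariskiSite.toOpensFunctor Y).op ⋙ Y.presheaf ⟶ site ι where
  app U := CommRingCat.ofHom ((𝒮.str.app (op U.unop.1)).hom.codRestrict (R 𝒮 ι U.unop.1) fun r => str_mem_R ι r)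
  naturality U V i := by
    refine CommRingCat.hom_ext (RingHom.ext fun r => Subtype.ext ?_)
    exact congr($(𝒮.str.naturality (homOfLE (AffineZariskiSite.toOpens_mono i.unop.le)).op).hom r)

theorem coequifibered : (str ι).Coequifibered := by
  refine AffineZariskiSite.coequifibered_iff_forall_isLocalizationAway.2 fun U r => ?_
  let c := (𝒮.str.app (op U.1)).hom r
  let res := (𝒮.presheaf.map (homOfLE (Y.basicOpen_le r)).op).hom
  let _ := res.toAlgebra
  have hloc : IsLocalization.Away c (𝒮.presheaf.obj (op (Y.basicOpen r))) := 𝒮.isQC U.1 U.2 r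
  let φ : R 𝒮 ι U.1 →+* R 𝒮 ι (Y.basicOpen r) := ((site ι).map (homOfLE (U.basicOpen_le r)).op).hom
  let _ : Algebra (R 𝒮 ι U.1) (R 𝒮 ι (Y.basicOpen r)) := φ.toAlgebra
  show IsLocalization.Away (⟨c, str_mem_R ι r⟩ : R 𝒮 ι U.1) (R 𝒮 ι (Y.basicOpen r))
  have hres : ∀ y : R 𝒮 ι U.1, ((algebraMap (R 𝒮 ι U.1) (R 𝒮 ι (Y.basicOpen r)) y : R 𝒮 ι (Y.basicOpen r)) : 𝒮.presheaf.obj (op (Y.basicOpen r))) = res y.1 :=
    fun y => rfl
  have hc : res c = (𝒮.str.app (op (Y.basicOpen r))).hom (QCoh.rres (Y.basicOpen_le r) r) := res_str _ r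
  refine (isLocalization_iff _ _).2 ⟨?_, ?_, ?_⟩
  · rintro ⟨_, k, rfl⟩
    have hu : IsUnit (QCoh.rres (Y.basicOpen_le r) r) := RingedSpace.isUnit_res_basicOpen _ r
    have h2 : IsUnit (((str ι).app (op (U.basicOpen r))).hom (QCoh.rres (Y.basicOpen_le r) r)) := hu.map _
    have h3 : ((str ι).app (op (U.basicOpen r))).hom (QCoh.rres (Y.basicOpen_le r) r) =
        algebraMap (R 𝒮 ι U.1) (R 𝒮 ι (Y.basicOpen r)) ⟨c, str_mem_R ι r⟩ := Subtype.ext hc.symm
    rw [h3] at h2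
    exact (map_pow (algebraMap (R 𝒮 ι U.1) (R 𝒮 ι (Y.basicOpen r))) ⟨c, str_mem_R ι r⟩ k).symm ▸ h2.pow k
  · intro z
    suffices H : ∀ z ∈ R 𝒮 ι (Y.basicOpen r), ∃ a ∈ R 𝒮 ι U.1, ∃ k : ℕ, z * res c ^ k = res a by
      obtain ⟨a, ha, k, hk⟩ := H z.1 z.2
      refine ⟨⟨⟨a, ha⟩, ⟨_, k, rfl⟩⟩, Subtype.ext ?_⟩
      show z.1 * ((algebraMap (R 𝒮 ι U.1) (R 𝒮 ι (Y.basicOpen r)) ((⟨c, str_mem_R ι r⟩ : R 𝒮 ι U.1) ^ k) : R 𝒮 ι (Y.basicOpen r)) : 𝒮.presheaf.obj (op (Y.basicOpen r))) = _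
      rw [map_pow, SubmonoidClass.coe_pow, hres]
      exact hk.trans (hres ⟨a, ha⟩).symm
    intro z hz
    induction hz using Subring.closure_induction with
    | mem z hz =>
      rcases hz with ⟨s, rfl⟩ | ⟨e, rfl⟩
      · have := U.2.isLocalization_basicOpen r
        obtain ⟨⟨a, _, k, rfl⟩, hk⟩ := IsLocalization.surj (Submonoid.powers r) s
        refine ⟨_, str_mem_R ι a, k, ?_⟩
        rw [hc, ← map_pow, ← map_mul]
        refine Eq.trans ?_ (res_str _ a).symm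
        refine congrArg _ (Eq.trans ?_ hk)
        rw [map_pow]; rfl
      · obtain ⟨k, e', he⟩ := ((QCoh.isQuasicoherent_iff_forall_isAffineOpen E).1 inferInstance U.1 U.2 r).surj e
        refine ⟨_, Subring.subset_closure (Or.inr ⟨e', rfl⟩), k, ?_⟩
        rw [ι_res, he, ι_smul, hc, ← map_pow, mul_comm]
    | zero => exact ⟨0, zero_mem _, 0, by simp⟩
    | one => exact ⟨1, one_mem _, 0, by simp⟩
    | add x y _ _ hx hy =>
      obtain ⟨a, ha, k, hk⟩ := hx
      obtain ⟨b, hb, l, hl⟩ := hy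
      refine ⟨c ^ l * a + c ^ k * b, add_mem (mul_mem (pow_mem (str_mem_R ι r) l) ha) (mul_mem (pow_mem (str_mem_R ι r) k) hb), k + l, ?_⟩
      rw [map_add, map_mul, map_mul, map_pow, map_pow, ← hk, ← hl]
      ring
    | neg x _ hx =>
      obtain ⟨a, ha, k, hk⟩ := hx
      exact ⟨-a, neg_mem ha, k, by rw [map_neg, ← hk, neg_mul]⟩
    | mul x y _ _ hx hy =>
      obtain ⟨a, ha, k, hk⟩ := hx
      obtain ⟨b, hb, l, hl⟩ := hy
      refine ⟨a * b, mul_mem ha hb, k + l, ?_⟩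
      rw [map_mul, ← hk, ← hl]
      ring
  · intro a b hab
    have hab' : algebraMap _ (𝒮.presheaf.obj (op (Y.basicOpen r))) a.1 = algebraMap _ (𝒮.presheaf.obj (op (Y.basicOpen r))) b.1 :=
      congrArg Subtype.val hab
    obtain ⟨⟨_, k, rfl⟩, hk⟩ := (IsLocalization.eq_iff_exists (Submonoid.powers c) _).1 hab'
    exact ⟨⟨_, k, rfl⟩, Subtype.ext hk⟩

/-- The inclusion on the affine opens. -/
def inclSite : site ι ⟶ (AffineZariskiSite.toOpensFunctor Y).op ⋙ 𝒮.presheaf where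
  app U := CommRingCat.ofHom (R 𝒮 ι U.unop.1).subtype
  naturality _ _ _ := rfl

/-- The subalgebra. -/
def alg : RelSpec.QCAlg Y := QCAlgLib.ofSite (coequifibered ι)

/-- Its inclusion. -/
def incl : alg ι ⟶ 𝒮.toQCAlg :=
  QCAlgLib.homOfSite ((QCAlgLib.ofSiteIso (coequifibered ι)).hom ≫ inclSite ι) fun U => by
    refine CommRingCat.hom_ext (RingHom.ext fun r => ?_)
    exact congrArg Subtype.val congr($(QCAlgLib.str_gammaAff (coequifibered ι) U.1 U.2).hom r)

variable {U : Y.Opens}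

lemma incl_app (hU : IsAffineOpen U) (x : (alg ι).presheaf.obj (op U)) :
    ((incl ι).hom.app (op U)).hom x = ((QCAlgLib.gammaAff (coequifibered ι) U hU).hom x).1 := by
  have h : (incl ι).hom.app (op U) = _ := QCAlgLib.homOfSite_app _ _ U hU
  exact congr($(h).hom x)

lemma incl_injective (hU : IsAffineOpen U) : Function.Injective ((incl ι).hom.app (op U)).hom := fun a b h => by
  rw [incl_app ι hU, incl_app ι hU] at h
  have := QCAlgLib.isIso_gammaAff (coequifibered ι) U hU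
  exact (ConcreteCategory.bijective_of_isIso (QCAlgLib.gammaAff (coequifibered ι) U hU)).1 (Subtype.ext h)

lemma incl_mem (hU : IsAffineOpen U) (x : (alg ι).presheaf.obj (op U)) :
    ((incl ι).hom.app (op U)).hom x ∈ R 𝒮 ι U := by
  rw [incl_app ι hU]; exact Subtype.coe_prop _

lemma exists_incl (hU : IsAffineOpen U) {x : 𝒮.presheaf.obj (op U)} (hx : x ∈ R 𝒮 ι U) :
    ∃ y, ((incl ι).hom.app (op U)).hom y = x := by
  have := QCAlgLib.isIso_gammaAff (coequifibered ι) U hU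
  obtain ⟨y, hy⟩ := (ConcreteCategory.bijective_of_isIso (QCAlgLib.gammaAff (coequifibered ι) U hU)).2 (show ((site ι).obj (op (QCAlgLib.site U hU)) : Type u) from ⟨x, hx⟩)
  exact ⟨y, (incl_app ι hU y).trans (congrArg Subtype.val hy)⟩

variable {n} (hn : 0 < n) (hι : ∀ (U : Y.Opens) (hU : IsAffineOpen U) (z : Γ(E, U)),
  (show 𝒮.presheaf.obj (op U) from ι.app U z) ∈ 𝒮.deg U hU n)

/-- The components of an element of the subring. -/
def Good (hU : IsAffineOpen U) (x : 𝒮.presheaf.obj (op U)) : Prop :=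
  (∀ i, (DirectSum.decompose (𝒮.deg U hU) x i : 𝒮.presheaf.obj (op U)) ∈ R 𝒮 ι U) ∧
    (∃ r, (DirectSum.decompose (𝒮.deg U hU) x 0 : 𝒮.presheaf.obj (op U)) = (𝒮.str.app (op U)).hom r) ∧
    ∃ z : Γ(E, U), (DirectSum.decompose (𝒮.deg U hU) x n : 𝒮.presheaf.obj (op U)) = (show 𝒮.presheaf.obj (op U) from ι.app U z)

include hn hι in
lemma good (hU : IsAffineOpen U) {x : 𝒮.presheaf.obj (op U)} (hx : x ∈ R 𝒮 ι U) : Good ι (n := n) hU x := by
  classical
  have hmon : ∀ y ∈ Submonoid.closure (Set.range (𝒮.str.app (op U)).hom ∪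
      Set.range fun z : Γ(E, U) => (show 𝒮.presheaf.obj (op U) from ι.app U z)),
      ∃ k, y ∈ 𝒮.deg U hU (k * n) ∧ y ∈ R 𝒮 ι U ∧ (k = 0 → ∃ r, y = (𝒮.str.app (op U)).hom r) ∧
        (k = 1 → ∃ z : Γ(E, U), y = (show 𝒮.presheaf.obj (op U) from ι.app U z)) := by
    intro y hy
    induction hy using Submonoid.closure_induction with
    | mem y hy =>
      rcases hy with ⟨r, rfl⟩ | ⟨z, rfl⟩
      · exact ⟨0, by rw [zero_mul]; exact 𝒮.str_mem U hU r, str_mem_R ι r, fun _ => ⟨r, rfl⟩, fun h => absurd h (by omega)⟩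
      · exact ⟨1, by rw [one_mul]; exact hι U hU z, Subring.subset_closure (Or.inr ⟨z, rfl⟩), fun h => absurd h (by omega), fun _ => ⟨z, rfl⟩⟩
    | one => exact ⟨0, by rw [zero_mul]; exact SetLike.one_mem_graded _, one_mem _, fun _ => ⟨1, (map_one _).symm⟩, fun h => absurd h (by omega)⟩
    | mul a b _ _ ha hb =>
      obtain ⟨k, hka, haR, ha0, ha1⟩ := ha
      obtain ⟨l, hlb, hbR, hb0, hb1⟩ := hb
      refine ⟨k + l, by rw [add_mul]; exact SetLike.mul_mem_graded hka hlb, mul_mem haR hbR, fun h => ?_, fun h => ?_⟩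
      · obtain ⟨r, rfl⟩ := ha0 (by omega)
        obtain ⟨s, rfl⟩ := hb0 (by omega)
        exact ⟨r * s, (map_mul _ r s).symm⟩
      · rcases (show k = 0 ∧ l = 1 ∨ k = 1 ∧ l = 0 by omega) with ⟨rfl, rfl⟩ | ⟨rfl, rfl⟩
        · obtain ⟨r, rfl⟩ := ha0 rfl
          obtain ⟨z, rfl⟩ := hb1 rfl
          exact ⟨r • z, (ι_smul ι r z).symm⟩
        · obtain ⟨z, rfl⟩ := ha1 rfl
          obtain ⟨r, rfl⟩ := hb0 rfl
          exact ⟨r • z, (mul_comm _ _).trans (ι_smul ι r z).symm⟩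
  rw [R, Subring.mem_closure_iff] at hx
  induction hx using AddSubgroup.closure_induction with
  | mem y hy =>
    obtain ⟨k, hk, hR, h0, h1⟩ := hmon y hy
    refine ⟨fun i => ?_, ?_, ?_⟩
    · by_cases h : k * n = i
      · subst h; rw [DirectSum.decompose_of_mem_same _ hk]; exact hR
      · rw [DirectSum.decompose_of_mem_ne _ hk h]; exact zero_mem _
    · by_cases h : k = 0
      · obtain ⟨r, hr⟩ := h0 h
        subst h
        exact ⟨r, by rw [DirectSum.decompose_of_mem_same _ (by simpa using hk), hr]⟩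
      · refine ⟨0, ?_⟩
        rw [DirectSum.decompose_of_mem_ne _ hk (by positivity), map_zero]
    · by_cases h : k = 1
      · obtain ⟨z, hz⟩ := h1 h
        subst h
        exact ⟨z, by rw [DirectSum.decompose_of_mem_same _ (by simpa using hk), hz]⟩
      · refine ⟨0, ?_⟩
        rw [DirectSum.decompose_of_mem_ne _ hk (fun h' => h (mul_right_cancel₀ hn.ne' (h'.trans (one_mul n).symm))), map_zero]
        rfl
  | zero =>
    exact ⟨fun i => by simp, ⟨0, by simp⟩, ⟨0, by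
      rw [DirectSum.decompose_zero, DirectSum.zero_apply, ZeroMemClass.coe_zero, map_zero]; rfl⟩⟩
  | add a b _ _ ha hb =>
    obtain ⟨ha, ⟨r, hr⟩, ⟨z, hz⟩⟩ := ha
    obtain ⟨hb, ⟨s, hs⟩, ⟨w, hw⟩⟩ := hb
    refine ⟨fun i => ?_, ⟨r + s, ?_⟩, ⟨z + w, ?_⟩⟩
    · rw [DirectSum.decompose_add, DirectSum.add_apply, AddMemClass.coe_add]; exact add_mem (ha i) (hb i)
    · rw [DirectSum.decompose_add, DirectSum.add_apply, AddMemClass.coe_add, hr, hs, map_add]
    · rw [DirectSum.decompose_add, DirectSum.add_apply, AddMemClass.coe_add, hz, hw, map_add]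
      rfl
  | neg a _ ha =>
    obtain ⟨ha, ⟨r, hr⟩, ⟨z, hz⟩⟩ := ha
    refine ⟨fun i => ?_, ⟨-r, ?_⟩, ⟨-z, ?_⟩⟩
    · rw [DirectSum.decompose_neg, DFinsupp.neg_apply, NegMemClass.coe_neg]; exact neg_mem (ha i)
    · rw [DirectSum.decompose_neg, DFinsupp.neg_apply, NegMemClass.coe_neg, hr, map_neg]
    · rw [DirectSum.decompose_neg, DFinsupp.neg_apply, NegMemClass.coe_neg, hz, map_neg]
      rfl

variable (𝒮) in
/-- The grading of the subalgebra. -/
def deg (U : Y.Opens) (hU : IsAffineOpen U) (i : ℕ) : AddSubgroup ((alg ι).presheaf.obj (op U)) :=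
  (𝒮.deg U hU i).comap ((incl ι).hom.app (op U)).hom.toAddMonoidHom

include hn hι in
lemma isInternal (U : Y.Opens) (hU : IsAffineOpen U) : DirectSum.IsInternal (deg 𝒮 ι U hU) := by
  classical
  let inc := ((incl ι).hom.app (op U)).hom
  let g : ∀ i, deg 𝒮 ι U hU i →+ 𝒮.deg U hU i := fun i =>
    (inc.toAddMonoidHom.comp (AddSubgroupClass.subtype (deg 𝒮 ι U hU i))).codRestrict (𝒮.deg U hU i) fun a => a.2
  have hcomp : ∀ y, inc (DirectSum.coeAddMonoidHom (deg 𝒮 ι U hU) y) =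
      DirectSum.coeAddMonoidHom (𝒮.deg U hU) (DirectSum.map g y) := by
    intro y
    induction y using DirectSum.induction_on with
    | zero => simp
    | of i a => rw [DirectSum.map_of, DirectSum.coeAddMonoidHom_of, DirectSum.coeAddMonoidHom_of]; rfl
    | add a b ha hb => simp only [map_add, ha, hb]
  constructor
  · intro a b hab
    have h := congrArg inc hab
    rw [hcomp, hcomp] at h
    refine DirectSum.map_injective g |>.2 (fun i p q hpq => Subtype.ext (incl_injective ι hU ?_)) ?_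
    · exact congrArg Subtype.val hpq
    · exact (DirectSum.decompose (𝒮.deg U hU)).symm.injective h
  · intro x
    have hx := (good ι hn hι hU (incl_mem ι hU x)).1
    choose y hy using fun i => exists_incl ι hU (hx i)
    refine ⟨∑ i ∈ (DirectSum.decompose (𝒮.deg U hU) (inc x)).support,
      DirectSum.of (fun j => deg 𝒮 ι U hU j) i ⟨y i, show inc (y i) ∈ _ by rw [hy]; exact SetLike.coe_mem _⟩, ?_⟩
    apply incl_injective ι hU
    rw [map_sum, map_sum]
    refine Eq.trans ?_ (DirectSum.sum_support_decompose (𝒮.deg U hU) (inc x))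
    refine Finset.sum_congr rfl fun i _ => ?_
    rw [DirectSum.coeAddMonoidHom_of]
    exact hy i

variable (𝒮) in
/-- The subalgebra, graded. -/
def grAlg : QCGrAlg Y where
  toQCAlg := alg ι
  deg := deg 𝒮 ι
  graded U hU :=
    { (isInternal ι hn hι U hU).chooseDecomposition with
      one_mem := show ((incl ι).hom.app (op U)).hom 1 ∈ 𝒮.deg U hU 0 by rw [map_one]; exact SetLike.one_mem_graded _
      mul_mem := fun i j a b ha hb => show ((incl ι).hom.app (op U)).hom (a * b) ∈ 𝒮.deg U hU (i + j) by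
        rw [map_mul]; exact SetLike.mul_mem_graded ha hb }
  map_mem {U V} hU hV i {d y} hy := by
    refine show ((incl ι).hom.app (op V)).hom _ ∈ 𝒮.deg V hV d from ?_
    exact (congr($((incl ι).hom.naturality (homOfLE i).op).hom y)).symm ▸ 𝒮.map_mem hU hV i hy
  str_mem U hU r := show ((incl ι).hom.app (op U)).hom _ ∈ 𝒮.deg U hU 0 from
    (congr($(NatTrans.congr_app (incl ι).comm (op U)).hom r)).symm ▸ 𝒮.str_mem U hU r

theorem isGradedHom : IsGradedHom (𝒜 := grAlg 𝒮 ι hn hι) (ℬ := 𝒮) (incl ι) :=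
  fun _ _ _ _ hx => hx

theorem exists_lift (hU : IsAffineOpen U) (z : Γ(E, U)) :
    ∃ y ∈ (grAlg 𝒮 ι hn hι).deg U hU n, ((incl ι).hom.app (op U)).hom y = (show 𝒮.presheaf.obj (op U) from ι.app U z) := by
  obtain ⟨y, hy⟩ := exists_incl ι hU (Subring.subset_closure (Or.inr ⟨z, rfl⟩) : _ ∈ R 𝒮 ι U)
  exact ⟨y, show ((incl ι).hom.app (op U)).hom y ∈ _ by rw [hy]; exact hι U hU z, hy⟩

theorem deg_zero (hU : IsAffineOpen U) :
    (((grAlg 𝒮 ι hn hι).deg U hU 0 : AddSubgroup _) : Set ((grAlg 𝒮 ι hn hι).presheaf.obj (op U))) =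
      Set.range ((grAlg 𝒮 ι hn hι).str.app (op U)).hom := by
  refine Set.Subset.antisymm (fun y hy => ?_) ?_
  · obtain ⟨-, ⟨r, hr⟩, -⟩ := good ι hn hι hU (incl_mem ι hU y)
    rw [DirectSum.decompose_of_mem_same _ (show ((incl ι).hom.app (op U)).hom y ∈ 𝒮.deg U hU 0 from hy)] at hr
    exact ⟨r, incl_injective ι hU ((congr($(NatTrans.congr_app (incl ι).comm (op U)).hom r)).trans hr.symm)⟩
  · rintro _ ⟨r, rfl⟩
    exact (grAlg 𝒮 ι hn hι).str_mem U hU r

theorem closure_eq_top (hU : IsAffineOpen U) :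
    Subring.closure ((((grAlg 𝒮 ι hn hι).deg U hU 0 : AddSubgroup _) : Set ((grAlg 𝒮 ι hn hι).presheaf.obj (op U))) ∪
      (((grAlg 𝒮 ι hn hι).deg U hU n : AddSubgroup _) : Set ((grAlg 𝒮 ι hn hι).presheaf.obj (op U)))) = ⊤ := by
  refine eq_top_iff.2 fun y _ => ?_
  suffices h : R 𝒮 ι U ≤ (Subring.closure ((((grAlg 𝒮 ι hn hι).deg U hU 0 : AddSubgroup _) : Set ((grAlg 𝒮 ι hn hι).presheaf.obj (op U))) ∪
      (((grAlg 𝒮 ι hn hι).deg U hU n : AddSubgroup _) : Set _))).map ((incl ι).hom.app (op U)).hom by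
    obtain ⟨y', hy', he⟩ := h (incl_mem ι hU y)
    exact incl_injective ι hU he ▸ hy'
  rw [R, Subring.closure_le]
  rintro _ (⟨r, rfl⟩ | ⟨z, rfl⟩)
  · exact ⟨_, Subring.subset_closure (Or.inl ((grAlg 𝒮 ι hn hι).str_mem U hU r)), congr($(NatTrans.congr_app (incl ι).comm (op U)).hom r)⟩
  · obtain ⟨y', hy', he⟩ := exists_lift ι hn hι hU z
    exact ⟨y', Subring.subset_closure (Or.inr hy'), he⟩

theorem isFTDeg (hE : CohB1.IsFT E) : (grAlg 𝒮 ι hn hι).IsFTDeg n := by
  classical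
  intro U hU
  obtain ⟨T, hT⟩ := ((QCoh.isFiniteType_iff E).1 hE U hU).fg_top
  choose y hy hyz using fun t : T => exists_lift ι hn hι hU (t : Γ(E, U))
  refine ⟨Finset.univ.image y, ?_, fun x hx => ?_⟩
  · intro w hw
    obtain ⟨t, -, rfl⟩ := Finset.mem_image.1 hw
    exact hy t
  · obtain ⟨-, -, ⟨z, hz⟩⟩ := good ι hn hι hU (incl_mem ι hU x)
    rw [DirectSum.decompose_of_mem_same _ (show ((incl ι).hom.app (op U)).hom x ∈ 𝒮.deg U hU n from hx)] at hz
    obtain ⟨c, hc⟩ := (Submodule.mem_span_range_iff_exists_fun Γ(Y, U)).1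
      (show z ∈ Submodule.span Γ(Y, U) (Set.range fun t : T => (t : Γ(E, U))) by
        rw [show Set.range (fun t : T => (t : Γ(E, U))) = (T : Set Γ(E, U)) from Subtype.range_coe, hT]; trivial)
    refine ⟨fun w => ∑ t with y t = w, c t, incl_injective ι hU ?_⟩
    have hsum : (∑ w ∈ Finset.univ.image y, ((grAlg 𝒮 ι hn hι).str.app (op U)).hom (∑ t with y t = w, c t) * w) =
        ∑ t, ((grAlg 𝒮 ι hn hι).str.app (op U)).hom (c t) * y t := by
      rw [← Finset.sum_fiberwise_of_maps_to (g := y) (t := Finset.univ.image y) (fun t ht => Finset.mem_image_of_mem _ ht)]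
      refine Finset.sum_congr rfl fun w _ => ?_
      rw [map_sum, Finset.sum_mul]
      refine Finset.sum_congr rfl fun t ht => ?_
      obtain ⟨-, rfl⟩ := Finset.mem_filter.1 ht
      rfl
    rw [hsum, hz, ← hc]
    refine (map_sum (ι.app U).hom _ _).trans (Eq.trans ?_ (map_sum ((incl ι).hom.app (op U)).hom _ _).symm)
    refine Finset.sum_congr rfl fun t _ => (ι_smul ι (c t) _).trans ?_
    refine Eq.trans ?_ (map_mul ((incl ι).hom.app (op U)).hom _ _).symm
    exact congrArg₂ (· * ·) (congr($(NatTrans.congr_app (incl ι).comm (op U)).hom (c t))).symm (hyz t).symm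

end Groth.Agent.SubGen48
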