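import Groth.Agent.RelProjLib.ColimImm

/-! A fixed degree at which the immersion `r_{L,ψ}` over a standard open is seen. -/

noncomputable section

universe u

open CategoryTheory CategoryTheory.Limits AlgebraicGeometry TopologicalSpace Opposite HomogeneousLocalization
open scoped HomogeneousIdeal
open RelProj

namespace Groth.Agent.SubGen48

open Groth.Agent.RelProjLib

section away

variable {A : Type u} [CommRing A] (𝒜 : ℕ → AddSubgroup A) [GradedRing 𝒜] {d : ℕ} {f : A} (hf : f ∈ 𝒜 d) (hd : 0 < d)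

include hf hd in
/-- `D₊(f) = D₊(f ^ (M + 1))` on rings. -/
lemma isIso_awayMap (M : ℕ) {x : A} (hx : x = f * f ^ M) :
    IsIso (CommRingCat.ofHom (awayMap 𝒜 (SetLike.pow_mem_graded M hf) hx : Away 𝒜 f →+* Away 𝒜 x)) := by
  have hxm : x ∈ 𝒜 (d + M • d) := hx ▸ SetLike.mul_mem_graded hf (SetLike.pow_mem_graded M hf)
  have h1 := Proj.SpecMap_awayMap_awayι 𝒜 hf hd (SetLike.pow_mem_graded M hf) hx
  have hr : Set.range (Proj.awayι 𝒜 x hxm (hd.trans_le (Nat.le_add_right _ _))) = Set.range (Proj.awayι 𝒜 f hf hd) := by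
    rw [← Scheme.Hom.coe_opensRange, ← Scheme.Hom.coe_opensRange, Proj.opensRange_awayι, Proj.opensRange_awayι]
    rw [show x = f ^ (M + 1) by rw [hx, pow_succ'], Proj.basicOpen_pow _ _ _ M.succ_pos]
  have h2 : Spec.map (CommRingCat.ofHom (awayMap 𝒜 (SetLike.pow_mem_graded M hf) hx : Away 𝒜 f →+* Away 𝒜 x)) =
      (IsOpenImmersion.isoOfRangeEq (Proj.awayι 𝒜 x hxm (hd.trans_le (Nat.le_add_right _ _))) (Proj.awayι 𝒜 f hf hd) hr).hom := by
    rw [← cancel_mono (Proj.awayι 𝒜 f hf hd), IsOpenImmersion.isoOfRangeEq_hom_fac, h1]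
  have h3 : IsIso (Scheme.Spec.map (CommRingCat.ofHom (awayMap 𝒜 (SetLike.pow_mem_graded M hf) hx : Away 𝒜 f →+* Away 𝒜 x)).op) := by
    show IsIso (Spec.map (CommRingCat.ofHom (awayMap 𝒜 (SetLike.pow_mem_graded M hf) hx : Away 𝒜 f →+* Away 𝒜 x)))
    rw [h2]
    infer_instance
  have h4 := isIso_of_reflects_iso (CommRingCat.ofHom (awayMap 𝒜 (SetLike.pow_mem_graded M hf) hx : Away 𝒜 f →+* Away 𝒜 x)).op Scheme.Spec
  exact (isIso_op_iff _).1 h4

end away

variable {X Y P PL : Scheme.{u}} {q : X ⟶ Y} {𝒮 : QCGrAlg Y} {𝒮L : QCGrAlg X} (u : QGrHom q 𝒮 𝒮L)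
  {p : P ⟶ Y} {chart : ∀ (U : Y.Opens) (hU : IsAffineOpen U), (((p ⁻¹ᵁ U : P.Opens) : Scheme.{u}) ≅ Proj (𝒮.deg U hU))}
  {pL : PL ⟶ X}
  {chartL : ∀ (U : X.Opens) (hU : IsAffineOpen U), (((pL ⁻¹ᵁ U : PL.Opens) : Scheme.{u}) ≅ Proj (𝒮L.deg U hU))}

/-- All large multiples of `d` are degrees in which finitely many elements carry the closed immersion. -/
theorem exists_degree (hP : IsRelProj 𝒮 p chart) (hPL : IsRelProj 𝒮L pL chartL) [LocallyOfFiniteType q]
    [LocallyOfFiniteType pL]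
    {r : ((domQ u pL chartL : PL.Opens) : Scheme.{u}) ⟶ P}
    (hr : IsProjQMapOn u p chart pL chartL (domQ u pL chartL) r)
    {U : Y.Opens} (hU : IsAffineOpen U) {d : ℕ} (hd : 0 < d) {f : 𝒮.presheaf.obj (op U)} (hf : f ∈ 𝒮.deg U hU d)
    (hcl : IsClosedImmersion (r ∣_ (emb p chart U hU ''ᵁ Proj.basicOpen (𝒮.deg U hU) f))) :
    ∃ M₀, ∀ M, M₀ ≤ M → ∃ T : Finset (𝒮.presheaf.obj (op U)), (∀ t ∈ T, t ∈ 𝒮.deg U hU ((M + 1) * d)) ∧
      f ^ (M + 1) ∈ T ∧
      ∀ (𝒯 : QCGrAlg Y) (φ : 𝒯.toQCAlg ⟶ 𝒮.toQCAlg) (hφ : IsGradedHom φ) (u' : QGrHom q 𝒯 𝒮L)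
        (_ : ∀ U : Y.Opens, u'.app U = φ.hom.app (op U) ≫ u.app U)
        (P' : Scheme.{u}) (p' : P' ⟶ Y)
        (chart' : ∀ (U : Y.Opens) (hU : IsAffineOpen U), (((p' ⁻¹ᵁ U : P'.Opens) : Scheme.{u}) ≅ Proj (𝒯.deg U hU)))
        (_ : IsRelProj 𝒯 p' chart')
        (r' : ((domQ u' pL chartL : PL.Opens) : Scheme.{u}) ⟶ P')
        (_ : IsProjQMapOn u' p' chart' pL chartL (domQ u' pL chartL) r'),
        (∀ t ∈ T, ∃ g ∈ 𝒯.deg U hU ((M + 1) * d), (φ.hom.app (op U)).hom g = t) →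
        ∃ g ∈ 𝒯.deg U hU ((M + 1) * d), (φ.hom.app (op U)).hom g = f ^ (M + 1) ∧
          IsClosedImmersion (r' ∣_ (emb p' chart' U hU ''ᵁ Proj.basicOpen (𝒯.deg U hU) g)) ∧
          ∀ x : PL, (∃ hx : x ∈ domQ u pL chartL, r ⟨x, hx⟩ ∈ emb p chart U hU ''ᵁ Proj.basicOpen (𝒮.deg U hU) f) →
            ∃ hx : x ∈ domQ u' pL chartL,
              r' ⟨x, hx⟩ ∈ emb p' chart' U hU ''ᵁ Proj.basicOpen (𝒯.deg U hU) g := by
  classical
  let e := Proj.awayι (𝒮.deg U hU) f hf hd ≫ emb p chart U hU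
  have he : e.opensRange = emb p chart U hU ''ᵁ Proj.basicOpen (𝒮.deg U hU) f := by
    rw [Scheme.Hom.opensRange_comp, Proj.opensRange_awayι]
  have hsnd : IsClosedImmersion (pullback.snd r e) := by
    rw [← he] at hcl
    exact (MorphismProperty.arrow_mk_iso_iff @IsClosedImmersion (morphismRestrictOpensRange r e)).1 hcl
  obtain ⟨I, ζ, hζ⟩ := IsClosedImmersion.Spec_iff.1 hsnd
  let ψ : CommRingCat.of (HomogeneousLocalization.Away (𝒮.deg U hU) f) ⟶
    CommRingCat.of (HomogeneousLocalization.Away (𝒮.deg U hU) f ⧸ I) := CommRingCat.ofHom (Ideal.Quotient.mk I)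
  let z0 : pullback r e ⟶ (domQ u pL chartL : Scheme.{u}) := pullback.fst r e
  have hz0 : z0 ≫ r = pullback.snd r e ≫ e := pullback.condition
  have hbase : e ≫ p =
      Spec.map (CommRingCat.ofHom (zeroToAway (𝒜 := 𝒮.deg U hU) (𝒮.str.app (op U)).hom (𝒮.str_mem U hU) f)) ≫
        hU.fromSpec := by
    simp only [e, Category.assoc, emb_comp hP, Proj.awayι_toSpecZero_assoc, ← Spec.map_comp_assoc]
    rfl
  have hft : ((ψ.hom).comp (zeroToAway (𝒜 := 𝒮.deg U hU) (𝒮.str.app (op U)).hom (𝒮.str_mem U hU) f)).FiniteType := by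
    have h1 : LocallyOfFiniteType ((ζ.inv ≫ z0) ≫ r ≫ p) := by
      rw [comp_of_isProjQMapOn u p pL hP hPL hr]
      infer_instance
    have h2 : (ζ.inv ≫ z0) ≫ r ≫ p = Spec.map (CommRingCat.ofHom ((ψ.hom).comp
        (zeroToAway (𝒜 := 𝒮.deg U hU) (𝒮.str.app (op U)).hom (𝒮.str_mem U hU) f))) ≫ hU.fromSpec := by
      rw [Category.assoc, reassoc_of% hz0, hbase, hζ]
      simp only [Category.assoc, Iso.inv_hom_id_assoc, ← Spec.map_comp_assoc]
      rfl
    rw [h2] at h1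
    exact (HasRingHomProperty.Spec_iff (P := @LocallyOfFiniteType)).1
      (locallyOfFiniteType_of_comp (Spec.map (CommRingCat.ofHom ((ψ.hom).comp
        (zeroToAway (𝒜 := 𝒮.deg U hU) (𝒮.str.app (op U)).hom (𝒮.str_mem U hU) f)))) hU.fromSpec)
  algebraize [(ψ.hom).comp (zeroToAway (𝒜 := 𝒮.deg U hU) (𝒮.str.app (op U)).hom (𝒮.str_mem U hU) f)]
  obtain ⟨T, hT⟩ := Algebra.FiniteType.out (R := Γ(Y, U)) (A := HomogeneousLocalization.Away (𝒮.deg U hU) f ⧸ I)
  have hT' : ∀ b : T, ∃ (n : ℕ) (a : 𝒮.presheaf.obj (op U)) (ha : a ∈ 𝒮.deg U hU (n • d)),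
      ψ.hom (HomogeneousLocalization.Away.mk (𝒮.deg U hU) hf n a ha) = b.1 := fun b => by
    obtain ⟨z, hz⟩ := Ideal.Quotient.mk_surjective b.1
    obtain ⟨n, a, ha, rfl⟩ := HomogeneousLocalization.Away.mk_surjective (𝒮.deg U hU) hf z
    exact ⟨n, a, ha, hz⟩
  choose N a ha hab using hT'
  refine ⟨Finset.univ.sup N, fun M hM => ?_⟩
  have hfM : f ^ (M + 1) ∈ 𝒮.deg U hU ((M + 1) * d) := SetLike.pow_mem_graded (M + 1) hf
  have hNM : ∀ b : T, N b ≤ M + 1 := fun b => ((Finset.le_sup (Finset.mem_univ b)).trans hM).trans (Nat.le_succ M)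
  have haM : ∀ b : T, a b * f ^ (M + 1 - N b) ∈ 𝒮.deg U hU ((M + 1) * d) := fun b => by
    have h := SetLike.mul_mem_graded (A := 𝒮.deg U hU) (ha b) (SetLike.pow_mem_graded (M + 1 - N b) hf)
    rwa [smul_eq_mul, smul_eq_mul, ← add_mul, Nat.add_sub_cancel' (hNM b)] at h
  refine ⟨insert (f ^ (M + 1)) (Finset.univ.image fun b => a b * f ^ (M + 1 - N b)), fun t ht => ?_,
    Finset.mem_insert_self _ _, fun 𝒯 φk hφk u' hu' P' p' chart' hP' r' hr' hlift => ?_⟩
  · rcases Finset.mem_insert.1 ht with rfl | ht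
    · exact hfM
    · obtain ⟨b, -, rfl⟩ := Finset.mem_image.1 ht
      exact haM b
  obtain ⟨g, hg, hgf⟩ := hlift _ (Finset.mem_insert_self _ _)
  have hd' : 0 < (M + 1) * d := Nat.mul_pos M.succ_pos hd
  have hgf' : homAt hφk U hU g = f ^ (M + 1) := (gradedAt_ofHom_apply _ hφk U hU (le_refl U) g).trans hgf
  have hopen : Proj.basicOpen (𝒮.deg U hU) (f ^ (M + 1)) = Proj.basicOpen (𝒮.deg U hU) f :=
    Proj.basicOpen_pow _ _ _ M.succ_pos
  obtain ⟨rv, hrv, -⟩ := existsUnique_isProjQMapOn (QGrHom.ofHom φk hφk) p' p hP' hP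
  obtain ⟨l, hl, hl'⟩ := exists_comp hu' hr hr' hrv
  have hiff : ∀ x : PL, (∃ hx : x ∈ domQ u pL chartL,
        r ⟨x, hx⟩ ∈ emb p chart U hU ''ᵁ Proj.basicOpen (𝒮.deg U hU) f) ↔
      ∃ hx : x ∈ domQ u' pL chartL,
        r' ⟨x, hx⟩ ∈ emb p' chart' U hU ''ᵁ Proj.basicOpen (𝒯.deg U hU) g := by
    intro x
    rw [← hopen, preimage_standard_iff u hP hPL hr hU hd' hfM x, preimage_standard_iff u' hP' hPL hr' hU hd' hg x]
    refine exists_congr fun V => exists_congr fun hV => exists_congr fun hle => exists_congr fun w => ?_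
    rw [gradedAt_comp hu' (hv := hφk), GradedRingHom.comp_apply, gradedAt_ofHom_apply, hgf]
  refine ⟨g, hg, hgf, ?_, fun x => (hiff x).1⟩
  let ek := Proj.awayι (𝒯.deg U hU) g hg hd' ≫ emb p' chart' U hU
  have hek : ek.opensRange = emb p' chart' U hU ''ᵁ Proj.basicOpen (𝒯.deg U hU) g := by
    rw [Scheme.Hom.opensRange_comp, Proj.opensRange_awayι]
  let c₀ : CommRingCat.of (HomogeneousLocalization.Away (𝒯.deg U hU) g) ⟶
      CommRingCat.of (HomogeneousLocalization.Away (𝒮.deg U hU) (homAt hφk U hU g)) :=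
    CommRingCat.ofHom (HomogeneousLocalization.Away.map (homAt hφk U hU) g)
  generalize hf'' : f ^ (M + 1) = f'' at hgf' hfM
  have hx : f'' = f * f ^ M := by rw [← hf'', pow_succ']
  let ed := awayEmb (QGrHom.ofHom φk hφk) p chart U hU U hU (le_refl U) hd' g hg
  have hed := range_awayEmb_subset_domQ (QGrHom.ofHom φk hφk) p chart U hU U hU (le_refl U) hd' g hg
  have hrvc : IsOpenImmersion.lift (domQ (QGrHom.ofHom φk hφk) p chart).ι ed hed ≫ rv = Spec.map c₀ ≫ ek :=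
    hrv U hU U hU (le_refl U) ((M + 1) * d) hd' g hg hed
  -- transport along `φ g = f`
  subst hgf'
  have hFiso := isIso_awayMap (𝒮.deg U hU) hf hd M hx
  let F : CommRingCat.of (HomogeneousLocalization.Away (𝒮.deg U hU) f) ⟶
      CommRingCat.of (HomogeneousLocalization.Away (𝒮.deg U hU) (homAt hφk U hU g)) :=
    CommRingCat.ofHom (awayMap (𝒮.deg U hU) (SetLike.pow_mem_graded M hf) hx)
  have : IsIso F := hFiso
  let c := c₀ ≫ inv F
  let ed₀ := Proj.awayι (𝒮.deg U hU) (homAt hφk U hU g) hfM hd' ≫ emb p chart U hU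
  have hedF : Spec.map F ≫ e = ed₀ := by
    have h := Proj.SpecMap_awayMap_awayι (𝒮.deg U hU) hf hd (SetLike.pow_mem_graded M hf) hx
    exact (Category.assoc _ _ _).symm.trans (congrArg (· ≫ emb p chart U hU) h)
  have hOI : IsOpenImmersion ed := by unfold ed awayEmb; infer_instance
  have hed' : ed = ed₀ := rfl
  have hedc : Spec.map (inv F) ≫ ed = e := by
    rw [hed', ← hedF, ← Category.assoc, ← Spec.map_comp, IsIso.hom_inv_id, Spec.map_id, Category.id_comp]
  have hz : ∀ y : (pullback r e : Scheme.{u}), (z0 y).1 ∈ domQ u' pL chartL := fun y => by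
    refine ((hiff _).1 ⟨(z0 y).2, ?_⟩).1
    rw [← he]
    exact ⟨pullback.snd r e y, congr($(hz0) y).symm⟩
  let zk : pullback r e ⟶ (domQ u' pL chartL : Scheme.{u}) :=
    IsOpenImmersion.lift (domQ u' pL chartL).ι (z0 ≫ (domQ u pL chartL).ι) (by
      rintro _ ⟨y, rfl⟩
      rw [Scheme.Opens.range_ι]
      exact hz y)
  have hzk : zk ≫ (domQ u' pL chartL).ι = z0 ≫ (domQ u pL chartL).ι := IsOpenImmersion.lift_fac _ _ _
  have sq : zk ≫ r' = (pullback.snd r e ≫ Spec.map c) ≫ ek := by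
    rw [Spec.map_comp, ← Category.assoc (pullback.snd r e), Category.assoc _ (Spec.map c₀), ← hrvc, ← Category.assoc, ← hl', ← Category.assoc]
    congr 1
    rw [← cancel_mono (domQ (QGrHom.ofHom φk hφk) p chart).ι]
    simp only [Category.assoc, hl, IsOpenImmersion.lift_fac]
    rw [hedc, ← hz0, ← Category.assoc]
    congr 1
    rw [← cancel_mono (domQ u pL chartL).ι, Category.assoc, Scheme.homOfLE_ι, hzk]
  have hzkOI : IsOpenImmersion zk := by
    have : IsOpenImmersion (zk ≫ (domQ u' pL chartL).ι) := by rw [hzk]; infer_instance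
    exact IsOpenImmersion.of_comp zk (domQ u' pL chartL).ι
  have hrange : r' ⁻¹ᵁ ek.opensRange = zk.opensRange := by
    ext ⟨x, hx⟩
    constructor
    · intro hm
      obtain ⟨hx', hm'⟩ := (hiff x).2 ⟨hx, hek.le hm⟩
      have : (⟨x, hx'⟩ : (domQ u pL chartL : Scheme.{u})) ∈ z0.opensRange := by
        rw [show z0.opensRange = r ⁻¹ᵁ e.opensRange from Scheme.Hom.opensRange_pullbackFst _ _]
        exact he.ge hm'
      obtain ⟨y, hy⟩ := this
      refine ⟨y, (domQ u' pL chartL).ι.isOpenEmbedding.injective ?_⟩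
      rw [← Scheme.Hom.comp_apply, hzk, Scheme.Hom.comp_apply, hy]
      rfl
    · rintro ⟨y, hy⟩
      rw [← hy]
      exact ⟨_, congr($(sq) y).symm⟩
  have hcomp : IsClosedImmersion (pullback.snd r e ≫ Spec.map c) := by
    rw [hζ, Category.assoc, ← Spec.map_comp]
    have : IsClosedImmersion (Spec.map (c ≫ ψ)) := by
      refine IsClosedImmersion.spec_of_surjective _ fun b => ?_
      have hb : b ∈ Algebra.adjoin Γ(Y, U) (T : Set (HomogeneousLocalization.Away (𝒮.deg U hU) f ⧸ I)) :=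
        hT ▸ Algebra.mem_top
      suffices h : (Algebra.adjoin Γ(Y, U) (T : Set (HomogeneousLocalization.Away (𝒮.deg U hU) f ⧸ I))).toSubring ≤
          (ψ.hom.comp c.hom).range from h hb
      rw [Algebra.adjoin_eq_ring_closure, Subring.closure_le]
      rintro b (⟨s, rfl⟩ | hb)
      · refine ⟨zeroToAway (𝒜 := 𝒯.deg U hU) (𝒯.str.app (op U)).hom (𝒯.str_mem U hU) g s, ?_⟩
        refine congrArg ψ.hom ((ConcreteCategory.bijective_of_isIso F).1 ?_)
        show (inv F ≫ F).hom (c₀.hom _) = F.hom _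
        rw [IsIso.inv_hom_id, CommRingCat.hom_id, RingHom.id_apply]
        show HomogeneousLocalization.Away.map (homAt hφk U hU) g _ = awayMap (𝒮.deg U hU) (SetLike.pow_mem_graded M hf) hx _
        rw [zeroToAway, RingHom.comp_apply, zeroToAway, RingHom.comp_apply, awayMap_fromZeroRingHom]
        apply HomogeneousLocalization.val_injective
        dsimp [HomogeneousLocalization.Away.map, HomogeneousLocalization.fromZeroRingHom]
        erw [HomogeneousLocalization.map_mk, HomogeneousLocalization.val_mk, HomogeneousLocalization.val_mk]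
        · refine congrArg₂ Localization.mk ?_ (Subtype.ext (map_one (homAt hφk U hU)))
          refine (gradedAt_ofHom_apply _ hφk U hU (le_refl U) _).trans ?_
          exact congr($(NatTrans.congr_app φk.comm (op U)).hom s)
      · obtain ⟨a', ha', haa⟩ := hlift _ (Finset.mem_insert_of_mem
          (Finset.mem_image_of_mem (fun b => a b * f ^ (M + 1 - N b)) (Finset.mem_univ ⟨b, hb⟩)))
        refine ⟨HomogeneousLocalization.Away.mk _ hg 1 a' (by rwa [one_smul]), ?_⟩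
        refine Eq.trans ?_ (hab ⟨b, hb⟩)
        refine congrArg ψ.hom ((ConcreteCategory.bijective_of_isIso F).1 ?_)
        show (inv F ≫ F).hom (c₀.hom _) = F.hom _
        rw [IsIso.inv_hom_id, CommRingCat.hom_id, RingHom.id_apply]
        show HomogeneousLocalization.Away.map (homAt hφk U hU) g _ = awayMap (𝒮.deg U hU) (SetLike.pow_mem_graded M hf) hx _
        apply HomogeneousLocalization.val_injective
        erw [HomogeneousLocalization.Away.map_mk, awayMap_mk, HomogeneousLocalization.Away.val_mk,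
          HomogeneousLocalization.Away.val_mk]
        rw [Localization.mk_eq_mk_iff, Localization.r_iff_exists]
        refine ⟨1, ?_⟩
        simp only [OneMemClass.coe_one, one_mul, pow_one]
        rw [show homAt hφk U hU a' = a ⟨b, hb⟩ * f ^ (M + 1 - N ⟨b, hb⟩) from
          (gradedAt_ofHom_apply _ hφk U hU (le_refl U) a').trans haa, hx]
        rw [mul_pow, ← pow_mul]
        calc f ^ N ⟨b, hb⟩ * f ^ (M * N ⟨b, hb⟩) * (a ⟨b, hb⟩ * f ^ (M + 1 - N ⟨b, hb⟩))
            = a ⟨b, hb⟩ * f ^ (M * N ⟨b, hb⟩) * (f ^ N ⟨b, hb⟩ * f ^ (M + 1 - N ⟨b, hb⟩)) := by ring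
          _ = _ := by rw [← pow_add, Nat.add_sub_cancel' (hNM _)]; ring
    infer_instance
  exact hek ▸ restrict_of_square @IsClosedImmersion (pullback.snd r e ≫ Spec.map c) zk ek (r') sq hrange hcomp

end Groth.Agent.SubGen48
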